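import Groth.Agent.QCoh.Submod
import Groth.Agent.QCoh.ClosedPush
import Groth.Agent.FComplLib.IdealComap
import Groth.Agent.KFlatLib.Scheme.PullTensor
import Groth.Agent.KFlatLib.Scheme.ClosedPush
import Groth.Agent.AModX.Res
import Groth.Agent.QCoh.Stalk
import Groth.Prelude.Def_Dual3
import Groth.Prelude.Def_Wider

/-!
# Modules killed by the ideal of a closed subscheme, and the right adjoint of the direct image
-/

set_option autoImplicit false
set_option linter.style.haveILetI false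
set_option backward.isDefEq.respectTransparency false
set_option backward.isDefEq.respectTransparency.types false
set_option maxHeartbeats 1000000

universe u

open CategoryTheory CategoryTheory.Limits AlgebraicGeometry TopologicalSpace Opposite

noncomputable section

namespace Groth.Agent.HomOLib

open Groth.Agent Groth.Agent.AModX

variable {Z X : Scheme.{u}} (i : Z ⟶ X) [IsClosedImmersion i]

/-- Sections over affines killed by the ideal of the closed subscheme. -/
def Killed (M : X.Modules) : Prop :=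
  ∀ (U : X.affineOpens), ∀ a ∈ i.ker.ideal U, ∀ s : Γ(M, U.1), a • s = 0

theorem killed_of_mono {M N : X.Modules} (φ : M ⟶ N) [Mono φ] (h : Killed i N) : Killed i M :=
  fun U a ha s => QCoh.app_injective φ U.1 (by rw [Scheme.Modules.Hom.app_smul, h U a ha, map_zero])

theorem killed_push (M : Z.Modules) : Killed i ((Scheme.Modules.pushforward i).obj M) := fun U a ha s => by
  rw [FComplLib.ideal_ker, RingHom.mem_ker] at ha
  show (i.app U.1).hom a • (show Γ(M, i ⁻¹ᵁ U.1) from s) = 0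
  rw [ha, zero_smul]

theorem subsingleton_sections_of_preimage_eq_bot (M : Z.Modules) {U : X.Opens} (h : i ⁻¹ᵁ U = ⊥) :
    Subsingleton Γ(M, i ⁻¹ᵁ U) := by
  rw [h]
  exact AddCommGrpCat.subsingleton_of_isZero
    (TopCat.Sheaf.isTerminalOfEmpty (⟨M.presheaf, M.isSheaf⟩ : TopCat.Sheaf Ab.{u} Z)).isZero

theorem preimage_eq_bot {U : X.Opens} (h : ∀ y ∈ U, y ∉ Set.range i.base) : i ⁻¹ᵁ U = ⊥ := by
  ext z
  simp only [Opens.coe_bot, Set.mem_empty_iff_false, iff_false]
  exact fun hz => h _ hz ⟨z, rfl⟩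

variable {M : X.Modules}

theorem germ_eq_zero_of_notMem (h : Killed i M) {x : X} (hx : x ∉ Set.range i.base) {U : X.Opens} (hxU : x ∈ U)
    (s : Γ(M, U)) : ∃ (W : X.Opens) (hW : W ≤ U), x ∈ W ∧ res M hW s = 0 := by
  let O : X.Opens := ⟨(Set.range i.base)ᶜ, i.isClosedEmbedding.isClosed_range.isOpen_compl⟩
  obtain ⟨_, ⟨W, hW, rfl⟩, hxW, hWU⟩ := X.isBasis_affineOpens.exists_subset_of_mem_open
    (show x ∈ U ⊓ O from ⟨hxU, hx⟩) (U ⊓ O).2
  refine ⟨W, fun y hy => (hWU hy).1, hxW, ?_⟩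
  have hbot : i ⁻¹ᵁ W = ⊥ := preimage_eq_bot i fun y hy => (hWU hy).2
  have h1 : (1 : Γ(X, W)) ∈ i.ker.ideal ⟨W, hW⟩ := by
    rw [FComplLib.ideal_ker, RingHom.mem_ker]
    have : Subsingleton Γ(Z, i ⁻¹ᵁ W) := by
      rw [hbot]
      exact CommRingCat.subsingleton_of_isTerminal Z.sheaf.isTerminalOfEmpty
    exact Subsingleton.elim _ _
  rw [← one_smul Γ(X, W) (res M _ s)]
  exact h ⟨W, hW⟩ 1 h1 _

theorem smul_gm_eq_zero (h : Killed i M) (z : Z) {a : X.presheaf.stalk (i z)} (ha : i.stalkMap z a = 0)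
    (m : (DerSch.stalkFunctor X (i z)).obj M) : a • m = 0 := by
  obtain ⟨V, hV, b, rfl⟩ := X.presheaf.exists_germ_eq (x := i z) a
  obtain ⟨V', hV', s, rfl⟩ : ∃ (V' : X.Opens) (hV' : i z ∈ V') (s : Γ(M, V')),
      KFlatLib.gm M V' hV' s = m := M.presheaf.germ_exist m
  rw [Scheme.Hom.germ_stalkMap_apply, ← map_zero (Z.presheaf.germ (i ⁻¹ᵁ V) z hV).hom] at ha
  obtain ⟨N, hzN, j₁, j₂, hN⟩ := Z.presheaf.germ_eq z hV hV _ _ ha
  obtain ⟨O, hO, hON⟩ := (IsClosedImmersion.base_closed (f := i)).isInducing.isOpen_iff.1 N.2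
  have hzO : i z ∈ (⟨O, hO⟩ : X.Opens) := (Set.ext_iff.1 hON z).2 hzN
  obtain ⟨_, ⟨W, hW, rfl⟩, hxW, hWU⟩ := X.isBasis_affineOpens.exists_subset_of_mem_open
    (show i z ∈ (V ⊓ V') ⊓ ⟨O, hO⟩ from ⟨⟨hV, hV'⟩, hzO⟩) ((V ⊓ V') ⊓ ⟨O, hO⟩).2
  have hWV : W ≤ V := fun y hy => (hWU hy).1.1
  have hWV' : W ≤ V' := fun y hy => (hWU hy).1.2
  have hWN : i ⁻¹ᵁ W ≤ N := fun y hy => (Set.ext_iff.1 hON y).1 (hWU hy).2
  have hb : resR hWV b ∈ i.ker.ideal ⟨W, hW⟩ := by
    rw [FComplLib.ideal_ker, RingHom.mem_ker]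
    have h1 : (i.app W) (resR hWV b) = resR (i.preimage_mono hWV) (i.app V b) :=
      congr($(i.naturality (homOfLE hWV).op) b)
    refine h1.trans ?_
    have h2 : resR j₁.le (i.app V b) = 0 := hN.trans (map_zero _)
    rw [show resR (i.preimage_mono hWV) (i.app V b) = resR hWN (resR j₁.le (i.app V b)) from
      (resR_resR _ _ _).symm, h2, map_zero]
  have h3 : resR hWV b • res M hWV' s = 0 := h ⟨W, hW⟩ _ hb _
  show X.presheaf.germ V (i z) hV b • M.presheaf.germ V' (i z) hV' s = 0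
  have h4 := congrArg (M.presheaf.germ W (i z) hxW) h3
  rw [QCoh.germ_smul' M hxW, map_zero] at h4
  rw [← X.presheaf.germ_res_apply (homOfLE hWV) (i z) hxW b,
    ← M.presheaf.germ_res_apply (homOfLE hWV') (i z) hxW s]
  exact h4

/-- On stalks at points of the closed subscheme the unit is bijective. -/
theorem bijective_stalk (h : Killed i M) (z : Z) :
    Function.Bijective fun m : (DerSch.stalkFunctor X (i z)).obj M =>
      KFlatLib.u1 (i.stalkMap z).hom ((DerSch.stalkFunctor X (i z)).obj M) m := by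
  let φ := (i.stalkMap z).hom
  let A := (DerSch.stalkFunctor X (i z)).obj M
  letI := φ.toAlgebra
  have hb := TensorProduct.isBaseChange (X.presheaf.stalk (i z)) A (Z.presheaf.stalk z)
  obtain ⟨hs, hk⟩ := QCoh.baseChange_surjection (i.stalkMap_surjective z) hb
  have hinj : Function.Injective
      (TensorProduct.mk (X.presheaf.stalk (i z)) (Z.presheaf.stalk z) A 1) := by
    refine LinearMap.ker_eq_bot.1 ?_
    rw [hk, eq_bot_iff, Submodule.smul_le]
    exact fun a ha m _ => (Submodule.mem_bot _).2 (smul_gm_eq_zero i h z ha m)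
  exact ⟨hinj, hs⟩

theorem gm_pb_inj (h : Killed i M) (z : Z) {U : X.Opens} (hz : i z ∈ U) (s : Γ(M, U))
    (e : KFlatLib.gm _ (i ⁻¹ᵁ U) hz (KFlatLib.pb i s) = 0) : KFlatLib.gm M U hz s = 0 := by
  have h1 := KFlatLib.stalkPullbackIso_gm i z M U hz s
  rw [e, map_zero] at h1
  exact (bijective_stalk i h z).1 (h1.symm.trans (map_zero _).symm)

theorem exists_gm_pb (h : Killed i M) (z : Z) (y : (DerSch.stalkFunctor Z z).obj ((Scheme.Modules.pullback i).obj M)) :
    ∃ (U : X.Opens) (hz : i z ∈ U) (s : Γ(M, U)), KFlatLib.gm _ (i ⁻¹ᵁ U) hz (KFlatLib.pb i s) = y := by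
  let e := ((KFlatLib.stalkPullbackIso i z).app M).toLinearEquiv
  obtain ⟨m, hm⟩ := (bijective_stalk i h z).2 (e y)
  obtain ⟨U, hz, s, rfl⟩ : ∃ (U : X.Opens) (hz : i z ∈ U) (s : Γ(M, U)),
      KFlatLib.gm M U hz s = m := M.presheaf.germ_exist m
  exact ⟨U, hz, s, e.injective ((KFlatLib.stalkPullbackIso_gm i z M U hz s).trans hm)⟩

/-- The unit is an isomorphism on a killed module. -/
theorem isIso_unit (h : Killed i M) :
    IsIso ((Scheme.Modules.pullbackPushforwardAdjunction i).unit.app M) := by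
  let P := (Scheme.Modules.pushforward i).obj ((Scheme.Modules.pullback i).obj M)
  let η : M ⟶ P := (Scheme.Modules.pullbackPushforwardAdjunction i).unit.app M
  have inj : ∀ U : X.Opens, Function.Injective (η.app U) := fun U => by
    refine (injective_iff_map_eq_zero _).2 fun s hs => eq_of_locally _ _ fun x hx => ?_
    by_cases hxr : x ∈ Set.range i.base
    · obtain ⟨z, rfl⟩ := hxr
      have h1 : KFlatLib.gm M U hx s = 0 := gm_pb_inj i h z hx s (by
        show ((Scheme.Modules.pullback i).obj M).presheaf.germ (i ⁻¹ᵁ U) z hx (η.app U s) = 0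
        rw [hs]
        exact map_zero _)
      obtain ⟨W, hxW, j₁, j₂, hW⟩ := M.presheaf.germ_eq (i z) hx hx s 0 (h1.trans (map_zero _).symm)
      exact ⟨W, j₁.le, hxW, hW⟩
    · obtain ⟨W, hW, hxW, hres⟩ := germ_eq_zero_of_notMem i h hxr hx s
      exact ⟨W, hW, hxW, by rw [hres, map_zero]⟩
  refine QCoh.isIso_of_isBasis η X.isBasis_affineOpens fun U _ => ⟨inj U, fun t => ?_⟩
  have loc : ∀ p : U, ∃ (W : X.Opens) (hW : W ≤ U), p.1 ∈ W ∧ ∃ m : Γ(M, W), η.app W m = res P hW t := by
    rintro ⟨x, hx⟩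
    by_cases hxr : x ∈ Set.range i.base
    · obtain ⟨z, rfl⟩ := hxr
      obtain ⟨V, hzV, m, hm⟩ := exists_gm_pb i h z
        (KFlatLib.gm ((Scheme.Modules.pullback i).obj M) (i ⁻¹ᵁ U) hx t)
      obtain ⟨N, hzN, j₁, j₂, hN⟩ := ((Scheme.Modules.pullback i).obj M).presheaf.germ_eq z
        (show z ∈ i ⁻¹ᵁ V from hzV) (show z ∈ i ⁻¹ᵁ U from hx) _ _ hm
      obtain ⟨O, hO, hON⟩ := (IsClosedImmersion.base_closed (f := i)).isInducing.isOpen_iff.1 N.2
      let W : X.Opens := V ⊓ U ⊓ ⟨O, hO⟩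
      have hWN : i ⁻¹ᵁ W ≤ N := fun y hy => (Set.ext_iff.1 hON y).1 hy.2
      refine ⟨W, inf_le_left.trans inf_le_right, ⟨⟨hzV, hx⟩, (Set.ext_iff.1 hON z).2 hzN⟩,
        res M (inf_le_left.trans inf_le_left) m, ?_⟩
      rw [app_res]
      show res ((Scheme.Modules.pullback i).obj M) (i.preimage_mono (inf_le_left.trans inf_le_left)) (η.app V m) =
        res ((Scheme.Modules.pullback i).obj M) (i.preimage_mono (inf_le_left.trans inf_le_right)) t
      have h2 := congrArg (res ((Scheme.Modules.pullback i).obj M) hWN) hN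
      exact ((res_res j₁.le hWN _).symm.trans h2).trans (res_res j₂.le hWN _)
    · let O : X.Opens := ⟨(Set.range i.base)ᶜ, i.isClosedEmbedding.isClosed_range.isOpen_compl⟩
      refine ⟨U ⊓ O, inf_le_left, ⟨hx, hxr⟩, 0, ?_⟩
      exact (subsingleton_sections_of_preimage_eq_bot i _ (preimage_eq_bot i (U := U ⊓ O) fun y hy => hy.2)).elim _ _
  choose W hW hpW m hm using loc
  obtain ⟨s, hs, -⟩ := existsUnique_glue (M := M) W hW (fun p hp => ⟨⟨p, hp⟩, hpW _⟩) m fun p q => by
    apply inj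
    rw [app_res, app_res, hm, hm, res_res, res_res]
  refine ⟨s, eq_of_locally (M := P) _ _ fun p hp => ⟨W ⟨p, hp⟩, hW _, hpW _, ?_⟩⟩
  rw [← app_res, hs, hm]

variable [Dual3.HasHomO i] (F : X.Modules)

theorem mono_counit : Mono ((Dual3.homOAdj i).counit.app F) := by
  let c := (Dual3.homOAdj i).counit.app F
  refine Preadditive.mono_of_kernel_zero ?_
  let k := kernel.ι c
  haveI := isIso_unit i (killed_of_mono i k (killed_push i _))
  let adj := Scheme.Modules.pullbackPushforwardAdjunction i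
  let k' := (adj.homEquiv _ _).symm k
  have hk : adj.unit.app (kernel c) ≫ (Scheme.Modules.pushforward i).map k' = k :=
    (adj.homEquiv_unit _ _ _).symm.trans ((adj.homEquiv _ _).apply_symm_apply k)
  have h1 : (Scheme.Modules.pushforward i).map k' ≫ c = 0 := by
    rw [← cancel_epi (adj.unit.app (kernel c)), comp_zero, ← Category.assoc, hk]
    exact kernel.condition c
  have h2 : k' = 0 := by
    refine ((Dual3.homOAdj i).homEquiv _ _).symm.injective ?_
    rw [Adjunction.homEquiv_counit, Adjunction.homEquiv_counit, h1, Functor.map_zero, zero_comp]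
  show k = 0
  rw [← hk, h2, Functor.map_zero, comp_zero]

/-- The sections killed by the ideal. -/
def torsionSub : QCoh.SubMod F where
  mem U :=
    { carrier := {s | ∀ (V : X.affineOpens) (h : V.1 ≤ U), ∀ a ∈ i.ker.ideal V, a • res F h s = 0}
      add_mem' := fun {s t} hs ht V h a ha => by rw [map_add, smul_add, hs V h a ha, ht V h a ha, add_zero]
      zero_mem' := fun V h a ha => by rw [map_zero, smul_zero]
      smul_mem' := fun r s hs V h a ha => by rw [res_smul, smul_comm, hs V h a ha, smul_zero] }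
  map_mem {U V} j {s} hs W h a ha := by
    show a • res F h (res F j s) = 0
    rw [res_res]
    exact hs W _ a ha
  of_locally U s hs V h a ha := eq_of_locally _ _ fun x hx => by
    obtain ⟨W, hW, hxW, hres⟩ := hs x (h hx)
    obtain ⟨_, ⟨W', hW', rfl⟩, hxW', hle⟩ := X.isBasis_affineOpens.exists_subset_of_mem_open
      (show x ∈ V.1 ⊓ W from ⟨hx, hxW⟩) (V.1 ⊓ W).2
    have hV' : W' ≤ V.1 := fun y hy => (hle hy).1
    have hW'W : W' ≤ W := fun y hy => (hle hy).2
    refine ⟨W', hV', hxW', ?_⟩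
    rw [map_zero, res_smul, res_res]
    have h1 : resR hV' a ∈ i.ker.ideal ⟨W', hW'⟩ := by
      rw [← i.ker.map_ideal (show (⟨W', hW'⟩ : X.affineOpens) ≤ V from hV')]
      exact Ideal.mem_map_of_mem _ ha
    have h2 := hres ⟨W', hW'⟩ hW'W _ h1
    change resR hV' a • res F hW'W (res F hW s) = 0 at h2
    rw [res_res] at h2
    exact h2

theorem killed_torsionSub : Killed i (torsionSub i F).toModules := fun U a ha s =>
  (torsionSub i F).ι_app_injective U.1 (by
    rw [Scheme.Modules.Hom.app_smul, map_zero]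
    have := (torsionSub i F).ι_app_mem U.1 s U le_rfl a ha
    rwa [res_self] at this)

theorem mem_range_counit {U : X.affineOpens} {s : Γ(F, U.1)} (hs : ∀ a ∈ i.ker.ideal U, a • s = 0) :
    s ∈ Set.range (((Dual3.homOAdj i).counit.app F).app U.1) := by
  let T := torsionSub i F
  haveI := isIso_unit i (killed_torsionSub i F)
  let adj := Scheme.Modules.pullbackPushforwardAdjunction i
  let η := adj.unit.app T.toModules
  let k' : (Scheme.Modules.pullback i).obj T.toModules ⟶ (Dual3.homO i).obj F :=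
    (Dual3.homOAdj i).homEquiv _ _ (inv η ≫ T.ι)
  have hk : (Scheme.Modules.pushforward i).map k' ≫ (Dual3.homOAdj i).counit.app F = inv η ≫ T.ι :=
    ((Dual3.homOAdj i).homEquiv_counit (g := k')).symm.trans
      (((Dual3.homOAdj i).homEquiv _ _).symm_apply_apply _)
  have hmem : s ∈ T.mem U.1 := fun V h a ha => by
    let J : Ideal Γ(X, V.1) := LinearMap.ker (LinearMap.toSpanSingleton Γ(X, V.1) Γ(F, V.1) (res F h s))
    have h2 : i.ker.ideal V ≤ J := by
      rw [← i.ker.map_ideal (show V ≤ U from h), Ideal.map_le_iff_le_comap]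
      intro c hc
      show resR h c • res F h s = 0
      rw [← res_smul, hs c hc, map_zero]
    exact h2 ha
  obtain ⟨t, ht⟩ := T.exists_app_eq hmem
  refine ⟨((Scheme.Modules.pushforward i).map k').app U.1 (η.app U.1 t), ?_⟩
  have h3 : η ≫ (Scheme.Modules.pushforward i).map k' ≫ (Dual3.homOAdj i).counit.app F = T.ι := by
    rw [hk, IsIso.hom_inv_id_assoc]
  exact (congrArg (fun φ : T.toModules ⟶ F => φ.app U.1 t) h3).trans ht

end Groth.Agent.HomOLib
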